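import Groth.Prelude.Def_AlgSpGpd
import Groth.Agent.ShfQuot.Basic

/-!
The kernel pair of the quotient by a pre-equivalence relation, and restriction of quotients.
-/

set_option autoImplicit false
set_option backward.isDefEq.respectTransparency.types false

universe u

open CategoryTheory CategoryTheory.Limits AlgebraicGeometry Opposite AlgSp

namespace Groth.Agent.QuotKernelPair

variable {S : Scheme.{u}} {R U : Sp S} (s t : R ⟶ U)

theorem equivalence_sections (h : IsPreEqvRelSp s t) (T : (Over S)ᵒᵖ) :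
    _root_.Equivalence fun a b : U.obj.obj T => ∃ r : R.obj.obj T, t.hom.app T r = a ∧ s.hom.app T r = b := by
  let E {F : Sp S} : ((yon S).obj T.unop ⟶ F) ≃ F.obj.obj T := (J S).uliftYonedaEquiv
  have key : ∀ {F G : Sp S} (f : F ⟶ G) (x : (yon S).obj T.unop ⟶ F), E (x ≫ f) = f.hom.app T (E x) :=
    fun f x => rfl
  have H : ∀ a b : (yon S).obj T.unop ⟶ U, (∃ r, r ≫ t = a ∧ r ≫ s = b) ↔
      ∃ r : R.obj.obj T, t.hom.app T r = E a ∧ s.hom.app T r = E b := fun a b =>
    ⟨fun ⟨r, h1, h2⟩ => ⟨E r, by rw [← key, h1], by rw [← key, h2]⟩, fun ⟨r, h1, h2⟩ =>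
      ⟨E.symm r, E.injective (by rw [key, Equiv.apply_symm_apply, h1]),
        E.injective (by rw [key, Equiv.apply_symm_apply, h2])⟩⟩
  refine ⟨fun a => ?_, fun {a b} hab => ?_, fun {a b c} hab hbc => ?_⟩
  · simpa using (H (E.symm a) (E.symm a)).1 ((h T.unop).refl _)
  · simpa using (H (E.symm b) (E.symm a)).1 ((h T.unop).symm ((H (E.symm a) (E.symm b)).2 (by simpa using hab)))
  · simpa using (H (E.symm a) (E.symm c)).1 ((h T.unop).trans
      ((H (E.symm a) (E.symm b)).2 (by simpa using hab)) ((H (E.symm b) (E.symm c)).2 (by simpa using hbc)))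

/-- The presheaf quotient. -/
noncomputable def preQuot : (Over S)ᵒᵖ ⥤ Type (u + 1) where
  obj T := Quot fun a b : U.obj.obj T => ∃ r : R.obj.obj T, t.hom.app T r = a ∧ s.hom.app T r = b
  map g := ↾(Quot.map (U.obj.map g) fun a b ⟨r, h1, h2⟩ => ⟨R.obj.map g r, by
    rw [NatTrans.naturality_apply, h1], by rw [NatTrans.naturality_apply, h2]⟩)
  map_id T := by
    ext x
    induction x using Quot.ind with
    | _ a => exact congrArg (Quot.mk _) (Functor.map_id_apply U.obj T a)
  map_comp f g := by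
    ext x
    induction x using Quot.ind with
    | _ a => exact congrArg (Quot.mk _) (Functor.map_comp_apply U.obj f g a)

/-- The projection to the presheaf quotient. -/
noncomputable def preπ : U.obj ⟶ preQuot s t where
  app T := ↾fun a => Quot.mk _ a
  naturality _ _ _ := rfl

/-- The kernel pair of the quotient map is covered by the relation. -/
theorem epi_lift_kernelPair (h : IsPreEqvRelSp s t) :
    Epi (pullback.lift t s (quotSp_condition s t).symm : R ⟶ pullback (quotSpπ s t) (quotSpπ s t)) := by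
  let π := quotSpπ s t
  let L := (presheafToSheaf (J S) (Type (u + 1))).obj (preQuot s t)
  let π₂ : U ⟶ L := ObjectProperty.homMk (preπ s t ≫ toSheafify (J S) (preQuot s t))
  have hw : s ≫ π₂ = t ≫ π₂ := by
    ext T r
    exact congrArg (fun z => (toSheafify (J S) (preQuot s t)).app T z) (Quot.sound ⟨r, rfl, rfl⟩).symm
  have hfac : π ≫ quotSpDesc π₂ hw = π₂ := quotSpπ_desc _ _ _ _
  refine (Sheaf.isLocallySurjective_iff_epi _).1 ⟨fun {T} z => ?_⟩
  let a := (pullback.fst π π).hom.app (op T) z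
  let b := (pullback.snd π π).hom.app (op T) z
  have hab : π.hom.app (op T) a = π.hom.app (op T) b :=
    congrArg (fun k : pullback π π ⟶ quotSp s t => k.hom.app (op T) z) pullback.condition
  have h2 : (toSheafify (J S) (preQuot s t)).app (op T) (Quot.mk _ a) =
      (toSheafify (J S) (preQuot s t)).app (op T) (Quot.mk _ b) := by
    have e : ∀ c, π₂.hom.app (op T) c = (quotSpDesc π₂ hw).hom.app (op T) (π.hom.app (op T) c) := fun c =>
      (congrArg (fun k : U ⟶ L => k.hom.app (op T) c) hfac).symm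
    exact (e a).trans ((congrArg _ hab).trans (e b).symm)
  refine (J S).superset_covering ?_ (Presheaf.equalizerSieve_mem (J S) (toSheafify (J S) (preQuot s t))
    (X := op T) (Quot.mk _ a) (Quot.mk _ b) h2)
  intro W i hi
  have hrel := (equivalence_sections s t h (op W)).eqvGen_iff.1 (Quot.eqvGen_exact
    (hi : Quot.mk _ (U.obj.map i.op a) = Quot.mk _ (U.obj.map i.op b)))
  obtain ⟨r, hr1, hr2⟩ := hrel
  refine ⟨r, ?_⟩
  have hp := (IsPullback.of_hasPullback π π).map
    (sheafToPresheaf (J S) (Type (u + 1)) ⋙ (evaluation _ _).obj (op W))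
  refine ((Types.isPullback_iff _ _ _ _).1 hp).2.1 _ _ ⟨?_, ?_⟩
  · refine (congrArg (fun k : R ⟶ U => k.hom.app (op W) r) (pullback.lift_fst _ _ _)).trans (hr1.trans ?_)
    exact (NatTrans.naturality_apply (pullback.fst π π).hom i.op z).symm
  · refine (congrArg (fun k : R ⟶ U => k.hom.app (op W) r) (pullback.lift_snd _ _ _)).trans (hr2.trans ?_)
    exact (NatTrans.naturality_apply (pullback.snd π π).hom i.op z).symm

/-- Restriction of the quotient: injectivity. -/
theorem mono_restrict {R' U' : Sp S} (h : IsPreEqvRelSp s t) (g : U' ⟶ U) (s' t' : R' ⟶ U') (r : R' ⟶ R)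
    (lift : ∀ {T : Sp S} (x y : T ⟶ U') (ρ : T ⟶ R), ρ ≫ t = x ≫ g → ρ ≫ s = y ≫ g →
      ∃ ρ' : T ⟶ R', ρ' ≫ t' = x ∧ ρ' ≫ s' = y)
    (ψ : quotSp s' t' ⟶ quotSp s t) (hψ : quotSpπ s' t' ≫ ψ = g ≫ quotSpπ s t) : Mono ψ := by
  let π := quotSpπ s t
  let π' := quotSpπ s' t'
  haveI : Epi π' := inferInstanceAs (Epi (coequalizer.π s' t'))
  haveI := epi_lift_kernelPair s t h
  have key : pullback.fst (g ≫ π) (g ≫ π) ≫ π' = pullback.snd (g ≫ π) (g ≫ π) ≫ π' := by
    let m : pullback (g ≫ π) (g ≫ π) ⟶ pullback π π :=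
      pullback.lift (pullback.fst _ _ ≫ g) (pullback.snd _ _ ≫ g) (by
        rw [Category.assoc, Category.assoc]; exact pullback.condition)
    let l : R ⟶ pullback π π := pullback.lift t s (quotSp_condition s t).symm
    have : Epi (pullback.fst m l) := ShfQuot.sheaf_epi_snd (IsPullback.of_hasPullback m l).flip
    rw [← cancel_epi (pullback.fst m l)]
    obtain ⟨ρ', h1, h2⟩ := lift (pullback.fst m l ≫ pullback.fst _ _) (pullback.fst m l ≫ pullback.snd _ _)
      (pullback.snd m l)
      (by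
        have e1 := congrArg (· ≫ pullback.fst π π) (pullback.condition (f := m) (g := l))
        have el : l ≫ pullback.fst π π = t := pullback.lift_fst _ _ _
        have em : m ≫ pullback.fst π π = pullback.fst _ _ ≫ g := pullback.lift_fst _ _ _
        simp only [Category.assoc] at e1
        rw [el, em, ← Category.assoc] at e1
        exact e1.symm)
      (by
        have e1 := congrArg (· ≫ pullback.snd π π) (pullback.condition (f := m) (g := l))
        have el : l ≫ pullback.snd π π = s := pullback.lift_snd _ _ _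
        have em : m ≫ pullback.snd π π = pullback.snd _ _ ≫ g := pullback.lift_snd _ _ _
        simp only [Category.assoc] at e1
        rw [el, em, ← Category.assoc] at e1
        exact e1.symm)
    rw [← Category.assoc, ← Category.assoc, ← h1, ← h2, Category.assoc, Category.assoc]
    exact congrArg (ρ' ≫ ·) (quotSp_condition s' t').symm
  refine ⟨fun {T} a b e => ?_⟩
  obtain ⟨P₁, q₁, x, sq₁⟩ : ∃ (P₁ : Sp S) (q₁ : P₁ ⟶ T) (x : P₁ ⟶ U'), IsPullback x q₁ π' a :=
    ⟨_, _, _, IsPullback.of_hasPullback π' a⟩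
  haveI : Epi q₁ := ShfQuot.sheaf_epi_snd sq₁
  obtain ⟨P₂, q₂, y, sq₂⟩ : ∃ (P₂ : Sp S) (q₂ : P₂ ⟶ P₁) (y : P₂ ⟶ U'), IsPullback y q₂ π' (q₁ ≫ b) :=
    ⟨_, _, _, IsPullback.of_hasPullback π' (q₁ ≫ b)⟩
  haveI : Epi q₂ := ShfQuot.sheaf_epi_snd sq₂
  rw [← cancel_epi q₁, ← cancel_epi q₂]
  have hxy : (q₂ ≫ x) ≫ g ≫ π = y ≫ g ≫ π := by
    rw [← hψ, ← Category.assoc, ← Category.assoc y, Category.assoc q₂, sq₁.w, sq₂.w]
    simp only [Category.assoc]
    rw [e]
  have := pullback.lift _ _ hxy ≫= key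
  rw [pullback.lift_fst_assoc, pullback.lift_snd_assoc, Category.assoc, sq₁.w, sq₂.w] at this
  exact this

theorem epi_of_epi_map {R' U' : Sp S} (g : U' ⟶ U) (s' t' : R' ⟶ U')
    (ψ : quotSp s' t' ⟶ quotSp s t) (hψ : quotSpπ s' t' ≫ ψ = g ≫ quotSpπ s t) [Epi g] : Epi ψ := by
  haveI : Epi (quotSpπ s t) := inferInstanceAs (Epi (coequalizer.π s t))
  haveI : Epi (quotSpπ s' t' ≫ ψ) := hψ ▸ inferInstance
  exact epi_of_epi (quotSpπ s' t') ψ

end Groth.Agent.QuotKernelPair
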